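import Groth.Agent.AmpleLib.GenNorm.Basic
import Groth.Agent.AmpleLib.GenNorm.Alg
import Groth.Agent.QCoh.Basic
import Mathlib.RingTheory.IntegralClosure.IsIntegralClosure.Basic

/-!
# The algebra of norms of a finite morphism, inside the product of the generic residue fields

`BB g D U` is the smallest subring of `∏ κ(η)` (`η` generic in `U`) containing the functions on `U` and
closed under the normalised norm of its combinations of functions on `g⁻¹ U`.
-/

set_option autoImplicit false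
set_option linter.style.haveILetI false
universe u

open CategoryTheory CategoryTheory.Limits AlgebraicGeometry TopologicalSpace

noncomputable section

namespace Groth.Agent.AmpleLib.FinModel

open Groth.Agent.AmpleLib.GenNorm Groth.Agent.QCoh

variable {X X' : Scheme.{u}} (g : X' ⟶ X) (D : ℕ)

/-- The generic points in `U`. -/
abbrev GU (U : X.Opens) : Type u := {η : X // η ∈ gens X ∧ η ∈ U}

/-- The product of their residue fields. -/
abbrev Kp (U : X.Opens) : Type u := ∀ η : GU U, X.residueField η.1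

/-- Values at the generic points. -/
def ev (U : X.Opens) : Γ(X, U) →+* Kp U := Pi.ringHom fun η => (X.evaluation U η.1 η.2.2).hom

@[simp] lemma ev_apply (U : X.Opens) (a : Γ(X, U)) (η : GU U) :
    ev U a η = X.evaluation U η.1 η.2.2 a := rfl

/-- Restriction to the generic points of a smaller open. -/
def pr {U V : X.Opens} (h : V ≤ U) : Kp U →+* Kp V :=
  Pi.ringHom fun η => Pi.evalRingHom _ (⟨η.1, η.2.1, h η.2.2⟩ : GU U)

lemma evaluation_rres {U V : X.Opens} (h : V ≤ U) {η : X} (hη : η ∈ V) (a : Γ(X, U)) :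
    X.evaluation V η hη (rres h a) = X.evaluation U η (h hη) a := by
  show (X.presheaf.map (homOfLE h).op ≫ X.evaluation V η hη) a = _
  rw [← X.germ_residue, ← X.germ_residue, X.presheaf.germ_res_assoc]

lemma pr_ev {U V : X.Opens} (h : V ≤ U) (a : Γ(X, U)) : pr h (ev U a) = ev V (rres h a) :=
  funext fun η => (evaluation_rres h η.2.2 a).symm

/-- The fibre value of a combination. -/
def combFib {U : X.Opens} {m : ℕ} (b : Fin m → Kp U) (a : Fin m → Γ(X', g ⁻¹ᵁ U)) (η : GU U) :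
    Γ(g.fiber η.1, ⊤) :=
  ∑ j, scal g η.1 (b j η) * toFib g η.1 U η.2.2 (a j)

/-- The norm on a fibre algebra. -/
def nrmFib (η : X) (x : Γ(g.fiber η, ⊤)) : X.residueField η :=
  letI := fibAlg g η
  Algebra.norm (X.residueField η) x

lemma nAt_eq_nrmFib {U : X.Opens} {η : X} (hη : η ∈ U) (f : Γ(X', g ⁻¹ᵁ U)) :
    nAt g η U hη f = nrmFib g η (toFib g η U hη f) := rfl

/-- The normalised norm of a combination. -/
def nV {U : X.Opens} {m : ℕ} (b : Fin m → Kp U) (a : Fin m → Γ(X', g ⁻¹ᵁ U)) : Kp U :=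
  fun η => nrmFib g η.1 (combFib g b a η) ^ (D / rk g η.1)

/-- Closed subrings. -/
def IsClosedN (U : X.Opens) (S : Subring (Kp U)) : Prop :=
  (∀ r, ev U r ∈ S) ∧ ∀ (m : ℕ) (b : Fin m → Kp U) (a : Fin m → Γ(X', g ⁻¹ᵁ U)),
    (∀ j, b j ∈ S) → nV g D b a ∈ S

/-- The smallest closed subring. -/
def BB (U : X.Opens) : Subring (Kp U) := sInf {S | IsClosedN g D U S}

lemma isClosedN_BB (U : X.Opens) : IsClosedN g D U (BB g D U) := by
  refine ⟨fun r => Subring.mem_sInf.2 fun S hS => hS.1 r, fun m b a hb => Subring.mem_sInf.2 fun S hS =>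
    hS.2 m b a fun j => Subring.mem_sInf.1 (hb j) S hS⟩

lemma BB_le {U : X.Opens} {S : Subring (Kp U)} (h : IsClosedN g D U S) : BB g D U ≤ S := sInf_le h

lemma nAt_pow_mem {U : X.Opens} (f : Γ(X', g ⁻¹ᵁ U)) :
    (fun η : GU U => nAt g η.1 U η.2.2 f ^ (D / rk g η.1)) ∈ BB g D U := by
  have := (isClosedN_BB g D U).2 1 (fun _ => 1) (fun _ => f) fun _ => one_mem _
  convert this using 1
  funext η
  simp [nV, combFib, nAt_eq_nrmFib]

variable {g D}

lemma combFib_pr {U V : X.Opens} (h : V ≤ U) {m : ℕ} (b : Fin m → Kp U) (a : Fin m → Γ(X', g ⁻¹ᵁ U))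
    (η : GU V) :
    combFib g (fun j => pr h (b j)) (fun j => rres (g.preimage_mono h) (a j)) η =
      combFib g b a ⟨η.1, η.2.1, h η.2.2⟩ :=
  Finset.sum_congr rfl fun j _ => congrArg _ (toFib_res g η.1 h η.2.2 (a j))

lemma nV_pr {U V : X.Opens} (h : V ≤ U) {m : ℕ} (b : Fin m → Kp U) (a : Fin m → Γ(X', g ⁻¹ᵁ U)) :
    pr h (nV g D b a) = nV g D (fun j => pr h (b j)) fun j => rres (g.preimage_mono h) (a j) :=
  funext fun η => by rw [nV, combFib_pr h b a η]; rfl

lemma pr_mem {U V : X.Opens} (h : V ≤ U) {x : Kp U} (hx : x ∈ BB g D U) : pr h x ∈ BB g D V := by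
  refine BB_le g D (S := (BB g D V).comap (pr h)) ⟨fun r => ?_, fun m b a hb => ?_⟩ hx
  · rw [Subring.mem_comap, pr_ev]; exact (isClosedN_BB g D V).1 _
  · rw [Subring.mem_comap, nV_pr]; exact (isClosedN_BB g D V).2 _ _ _ hb

lemma nrmFib_scal_mul [IsFinite g] (η : X) (c : X.residueField η) (x : Γ(g.fiber η, ⊤)) :
    nrmFib g η (scal g η c * x) = c ^ rk g η * nrmFib g η x := by
  letI := fibAlg g η
  haveI := finite_fib g η
  haveI := Module.Free.of_divisionRing (X.residueField η) Γ(g.fiber η, ⊤)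
  show Algebra.norm _ (algebraMap (X.residueField η) Γ(g.fiber η, ⊤) c * x) = _
  rw [map_mul, Algebra.norm_algebraMap]
  rfl

lemma ev_ne_zero_basicOpen {U : X.Opens} (c : Γ(X, U)) (η : GU (X.basicOpen c)) :
    X.evaluation U η.1 (X.basicOpen_le c η.2.2) c ≠ 0 :=
  (Scheme.evaluation_ne_zero_iff_mem_basicOpen _ η.1 _ c).2 η.2.2

/-- `B` of a basic open is the localization. -/
theorem exists_pow_mul_eq [IsFinite g] (hD : ∀ η ∈ gens X, rk g η * (D / rk g η) = D)
    {U : X.Opens} (hU : IsAffineOpen U) (c : Γ(X, U)) {x : Kp (X.basicOpen c)}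
    (hx : x ∈ BB g D (X.basicOpen c)) :
    ∃ (k : ℕ) (y : Kp U), y ∈ BB g D U ∧
      ev (X.basicOpen c) (rres (X.basicOpen_le c) c) ^ k * x = pr (X.basicOpen_le c) y := by
  classical
  set h := X.basicOpen_le c
  set cV := ev (X.basicOpen c) (rres h c)
  have hcV : cV = pr h (ev U c) := (pr_ev h c).symm
  have hmono : ∀ {x : Kp (X.basicOpen c)} {k k' : ℕ}, k ≤ k' →
      (∃ y ∈ BB g D U, cV ^ k * x = pr h y) → ∃ y ∈ BB g D U, cV ^ k' * x = pr h y := by
    rintro x k k' hk ⟨y, hy, e⟩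
    refine ⟨ev U c ^ (k' - k) * y, mul_mem (pow_mem ((isClosedN_BB g D U).1 c) _) hy, ?_⟩
    rw [map_mul, map_pow, ← hcV, ← e, ← mul_assoc, ← pow_add, Nat.sub_add_cancel hk]
  let S : Subring (Kp (X.basicOpen c)) :=
    { carrier := {x | ∃ k, ∃ y ∈ BB g D U, cV ^ k * x = pr h y}
      mul_mem' := by
        rintro x x' ⟨k, y, hy, e⟩ ⟨k', y', hy', e'⟩
        exact ⟨k + k', y * y', mul_mem hy hy', by rw [map_mul, ← e, ← e', pow_add, mul_mul_mul_comm]⟩
      one_mem' := ⟨0, 1, one_mem _, by simp⟩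
      add_mem' := by
        rintro x x' ⟨k, hx⟩ ⟨k', hx'⟩
        obtain ⟨y, hy, e⟩ := hmono (le_max_left k k') hx
        obtain ⟨y', hy', e'⟩ := hmono (le_max_right k k') hx'
        exact ⟨_, y + y', add_mem hy hy', by rw [mul_add, e, e', map_add]⟩
      zero_mem' := ⟨0, 0, zero_mem _, by simp⟩
      neg_mem' := by
        rintro x ⟨k, y, hy, e⟩
        exact ⟨k, -y, neg_mem hy, by rw [mul_neg, e, map_neg]⟩ }
  obtain ⟨k, y, hy, e⟩ : x ∈ S := by
    refine BB_le g D (S := S) ⟨fun r => ?_, fun m b a hb => ?_⟩ hx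
    · haveI := hU.isLocalization_basicOpen c
      obtain ⟨⟨r₀, ⟨_, k, rfl⟩⟩, hk⟩ := IsLocalization.surj (Submonoid.powers c) r
      refine ⟨k, ev U r₀, (isClosedN_BB g D U).1 _, ?_⟩
      rw [pr_ev, ← map_pow, ← map_mul, mul_comm]
      exact congrArg (ev _) ((congrArg (r * ·) (map_pow _ _ k).symm).trans hk)
    · choose kb hb' using hb
      let K := Finset.univ.sup kb
      choose y hy e using fun j => hmono (Finset.le_sup (f := kb) (Finset.mem_univ j)) (hb' j)
      have hpre : g ⁻¹ᵁ X.basicOpen c = X'.basicOpen (g.app U c) := g.preimage_basicOpen c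
      haveI := (hU.preimage g).isLocalization_of_eq_basicOpen (g.app U c) (homOfLE (g.preimage_mono h)) hpre
      letI := (X'.presheaf.map (homOfLE (g.preimage_mono h)).op).hom.toAlgebra
      choose a₀ ha using fun j => IsLocalization.surj (Submonoid.powers (g.app U c)) (a j)
      let a₁ := fun j => (a₀ j).1
      let s := fun j => (a₀ j).2
      have hs : ∀ j, a j * algebraMap Γ(X', g ⁻¹ᵁ U) Γ(X', g ⁻¹ᵁ X.basicOpen c) (s j) = algebraMap _ _ (a₁ j) := ha
      choose ks hks using fun j => (s j).2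
      let M := Finset.univ.sup ks
      let a₂ : Fin m → Γ(X', g ⁻¹ᵁ U) := fun j => g.app U c ^ (M - ks j) * a₁ j
      refine ⟨(K + M) * D, nV g D y a₂, (isClosedN_BB g D U).2 _ _ _ hy, ?_⟩
      funext η
      have hcη : ∀ j, toFib g η.1 _ η.2.2 (a j) * scal g η.1 (cV η) ^ M =
          toFib g η.1 U (h η.2.2) (a₂ j) := fun j => by
        have h1 := congrArg (toFib g η.1 _ η.2.2) (hs j)
        rw [map_mul] at h1
        erw [toFib_res g η.1 h η.2.2, toFib_res g η.1 h η.2.2] at h1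
        rw [← hks j, map_pow, toFib_app] at h1
        rw [map_mul, map_pow, toFib_app, ← h1, show cV η = X.evaluation U η.1 (h η.2.2) c from
          evaluation_rres h η.2.2 c, mul_left_comm, ← pow_add,
          Nat.sub_add_cancel (Finset.le_sup (f := ks) (Finset.mem_univ j))]
      have hsum : scal g η.1 (cV η ^ (K + M)) * combFib g b a η =
          combFib g y a₂ ⟨η.1, η.2.1, h η.2.2⟩ := by
        rw [combFib, combFib, Finset.mul_sum]
        refine Finset.sum_congr rfl fun j _ => ?_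
        rw [← hcη j, show y j ⟨η.1, η.2.1, h η.2.2⟩ = (cV ^ K * b j) η from (congrFun (e j) η).symm,
          Pi.mul_apply, Pi.pow_apply, map_mul, map_pow, map_pow, pow_add]
        ring
      show cV η ^ ((K + M) * D) * nV g D b a η = nrmFib g η.1 (combFib g y a₂ ⟨η.1, η.2.1, h η.2.2⟩) ^ _
      rw [← hsum, nrmFib_scal_mul, mul_pow, ← pow_mul, ← pow_mul]
      dsimp only
      rw [hD η.1 η.2.1]
      rfl
  exact ⟨k, y, hy, e⟩

lemma mul_pr_eq_zero {U : X.Opens} (c : Γ(X, U)) {y : Kp U} (hy : pr (X.basicOpen_le c) y = 0) :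
    ev U c * y = 0 := by
  funext η
  by_cases hη : η.1 ∈ X.basicOpen c
  · exact (congrArg (ev U c η * ·) (congrFun hy ⟨η.1, η.2.1, hη⟩)).trans (mul_zero _)
  · rw [Pi.mul_apply, ev_apply, (Scheme.evaluation_eq_zero_iff_notMem_basicOpen _ η.1 _ c).2 hη, zero_mul]
    rfl

lemma inv_mem_basicOpen {U : X.Opens} (c : Γ(X, U)) :
    ∃ v ∈ BB g D (X.basicOpen c), ev (X.basicOpen c) (rres (X.basicOpen_le c) c) * v = 1 := by
  obtain ⟨v, hv⟩ := isUnit_iff_exists_inv.1 (RingedSpace.isUnit_res_basicOpen X.toRingedSpace c)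
  exact ⟨ev _ v, (isClosedN_BB g D _).1 v, by rw [← map_mul]; exact (congrArg _ hv).trans (map_one _)⟩

theorem roots_fg_aux {R Ω : Type u} [CommRing R] [Field Ω] [Algebra R Ω] {m : ℕ}
    (p : Fin m → Polynomial R) (hp : ∀ i, (p i).Monic) :
    ∃ Λ : Subalgebra R Ω, Λ.toSubmodule.FG ∧ ∀ i (l : Ω), Polynomial.aeval l (p i) = 0 → l ∈ Λ := by
  let T : Set Ω := ⋃ i, {l | Polynomial.aeval l (p i) = 0}
  have hT : T.Finite := Set.finite_iUnion fun i => by
    refine (Polynomial.finite_setOf_isRoot (p := (p i).map (algebraMap R Ω))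
      ((hp i).map _).ne_zero).subset fun l hl => ?_
    simpa [Polynomial.IsRoot, Polynomial.eval_map, ← Polynomial.aeval_def] using hl
  refine ⟨Algebra.adjoin R T, fg_adjoin_of_finite hT ?_,
    fun i l hl => Algebra.subset_adjoin (Set.mem_iUnion.2 ⟨i, hl⟩)⟩
  intro l hl
  obtain ⟨i, hi⟩ := Set.mem_iUnion.1 hl
  exact ⟨p i, hp i, hi⟩

theorem exists_bound_aux [IsFinite g] {U : X.Opens} (hU : IsAffineOpen U) (η : GU U) (Ω : Type u) [Field Ω]
    [Algebra (X.residueField η.1) Ω] [IsAlgClosed Ω] :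
    letI : Algebra Γ(X, U) Ω :=
      ((algebraMap (X.residueField η.1) Ω).comp (X.evaluation U η.1 η.2.2).hom).toAlgebra
    ∃ Λ : Subalgebra Γ(X, U) Ω, Λ.toSubmodule.FG ∧ ∀ (m : ℕ) (b : Fin m → Kp U)
      (a : Fin m → Γ(X', g ⁻¹ᵁ U)), (∀ j, algebraMap _ Ω (b j η) ∈ Λ) → algebraMap _ Ω (nV g D b a η) ∈ Λ := by
  classical
  letI : Algebra Γ(X, U) Ω :=
    ((algebraMap (X.residueField η.1) Ω).comp (X.evaluation U η.1 η.2.2).hom).toAlgebra
  letI := (g.app U).hom.toAlgebra
  haveI : Module.Finite Γ(X, U) Γ(X', g ⁻¹ᵁ U) := g.finite_app U hU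
  obtain ⟨n, x, hx⟩ := Module.Finite.exists_fin (R := Γ(X, U)) (M := Γ(X', g ⁻¹ᵁ U))
  choose p hpm hp using fun i => (g.finite_app U hU).to_isIntegral (x i)
  obtain ⟨Λ, hΛ, hroot⟩ := roots_fg_aux (Ω := Ω) p hpm
  refine ⟨Λ, hΛ, fun m b a hb => ?_⟩
  letI := fibAlg g η.1
  haveI := finite_fib g η.1
  rw [nV, map_pow]
  refine pow_mem (norm_mem Λ.toSubring _ fun χ => ?_) _
  rw [combFib, map_sum]
  refine sum_mem fun j _ => ?_
  rw [map_mul]
  refine mul_mem ((χ.commutes (b j η)).symm ▸ hb j) ?_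
  have hc : ∀ r : Γ(X, U), χ (toFib g η.1 U η.2.2 (g.app U r)) = algebraMap Γ(X, U) Ω r := fun r => by
    rw [toFib_app]; exact χ.commutes _
  obtain ⟨r, hr⟩ := (Submodule.mem_span_range_iff_exists_fun _).1 (hx.ge (Submodule.mem_top (x := a j)))
  rw [← hr, map_sum, map_sum]
  refine sum_mem fun i _ => ?_
  rw [Algebra.smul_def, map_mul, map_mul]
  refine mul_mem ((hc (r i)).symm ▸ Λ.algebraMap_mem (r i)) (hroot i _ ?_)
  have hf := congrArg (χ.toRingHom.comp (toFib g η.1 U η.2.2)) (hp i)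
  rw [Polynomial.hom_eval₂, map_zero] at hf
  rw [Polynomial.aeval_def]
  refine Eq.trans ?_ hf
  congr 1
  exact RingHom.ext fun r => (hc r).symm

theorem finite_aux [IsFinite g] [IsNoetherian X] {U : X.Opens} (hU : IsAffineOpen U) (Ω : GU U → Type u)
    [∀ η, Field (Ω η)] [∀ η : GU U, Algebra (X.residueField η.1) (Ω η)] [∀ η, IsAlgClosed (Ω η)] :
    ((ev U).codRestrict (BB g D U) (isClosedN_BB g D U).1).Finite := by
  classical
  haveI : Finite (GU U) := by
    have hfin : (gens X).Finite := genericPoints.finite NoetherianSpace.finite_irreducibleComponents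
    exact Set.Finite.to_subtype (hfin.subset fun η hη => hη.1 : Set.Finite {η : X | η ∈ gens X ∧ η ∈ U})
  haveI : IsNoetherianRing Γ(X, U) := IsLocallyNoetherian.component_noetherian ⟨U, hU⟩
  letI : ∀ η : GU U, Algebra Γ(X, U) (Ω η) := fun η =>
    ((algebraMap (X.residueField η.1) (Ω η)).comp (X.evaluation U η.1 η.2.2).hom).toAlgebra
  choose Λ hΛ hmem using fun η => exists_bound_aux (g := g) (D := D) hU η (Ω η)
  let C : Subring (Kp U) :=
    ⨅ η, (Λ η).toSubring.comap ((algebraMap _ (Ω η)).comp (Pi.evalRingHom _ η))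
  have hC : ∀ {x}, x ∈ C ↔ ∀ η, algebraMap _ (Ω η) (x η) ∈ Λ η := by
    intro x; simp [C, Subring.mem_iInf]
  have hle : BB g D U ≤ C := BB_le g D ⟨fun r => hC.2 fun η => (Λ η).algebraMap_mem r,
    fun m b a hb => hC.2 fun η => hmem η m b a fun j => hC.1 (hb j) η⟩
  letI := ((ev U).codRestrict (BB g D U) (isClosedN_BB g D U).1).toAlgebra
  haveI : ∀ η, Module.Finite Γ(X, U) (Λ η) := fun η => Module.Finite.iff_fg.2 (hΛ η)
  haveI : IsNoetherian Γ(X, U) (∀ η, Λ η) := isNoetherian_pi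
  let Φ : BB g D U →ₗ[Γ(X, U)] (∀ η, Λ η) :=
    { toFun := fun x η => ⟨algebraMap _ (Ω η) (x.1 η), hC.1 (hle x.2) η⟩
      map_add' := fun x y => funext fun η => Subtype.ext (map_add _ (x.1 η) (y.1 η))
      map_smul' := fun r x => funext fun η => Subtype.ext (map_mul (algebraMap _ (Ω η)) _ (x.1 η)) }
  exact Module.Finite.of_injective Φ fun x y hxy => Subtype.ext (funext fun η =>
    (algebraMap _ (Ω η)).injective (congrArg Subtype.val (congrFun hxy η)))

/-- `B(U)` is finite over the functions on `U`. -/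
theorem finite_BB [IsFinite g] [IsNoetherian X] {U : X.Opens} (hU : IsAffineOpen U) :
    ((ev U).codRestrict (BB g D U) (isClosedN_BB g D U).1).Finite :=
  finite_aux hU fun η => AlgebraicClosure (X.residueField η.1)

end Groth.Agent.AmpleLib.FinModel

end
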