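import Groth.Agent.AmpleLib.FinModel.Model
import Groth.Agent.Thick.Unram

/-!
# Norms exist along the pull-back of `g` to the model
-/

set_option autoImplicit false
set_option linter.style.haveILetI false
universe u

open CategoryTheory CategoryTheory.Limits AlgebraicGeometry TopologicalSpace Opposite

noncomputable section

namespace Groth.Agent.AmpleLib.FinModel

open Groth.Agent.AmpleLib.GenNorm Groth.Agent.QCoh
open Scheme (AffineZariskiSite)

section bc

variable {X X' Z P : Scheme.{u}} {g : X' ⟶ X} {h : Z ⟶ X} {p : P ⟶ X'} {g' : P ⟶ Z}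

lemma exists_fib_equiv (sq : IsPullback p g' g h) (y : Z) [IsIso (h.residueFieldMap y)] :
    ∃ e : Γ(g.fiber (h y), ⊤) ≃+* Γ(g'.fiber y, ⊤),
      (∀ c, e (scal g (h y) c) = scal g' y (h.residueFieldMap y c)) ∧
      ∀ (U : X.Opens) (hy : h y ∈ U) (f : Γ(X', g ⁻¹ᵁ U)) (hle : g' ⁻¹ᵁ (h ⁻¹ᵁ U) ≤ p ⁻¹ᵁ (g ⁻¹ᵁ U)),
        e (toFib g (h y) U hy f) = toFib g' y (h ⁻¹ᵁ U) hy (p.appLE _ _ hle f) := by
  have hsq := isPullback_fiberToSpecResidueField_of_isPullback sq y
  let θ : g'.fiber y ⟶ g.fiber (h y) := pullback.map g' (Z.fromSpecResidueField y) g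
    (X.fromSpecResidueField (h y)) p (Spec.map (h.residueFieldMap y)) h sq.w.symm (by simp)
  haveI : IsIso θ := hsq.isIso_fst_of_isIso
  haveI : IsIso θ.appTop := inferInstanceAs (IsIso (θ.app ⊤))
  refine ⟨(asIso θ.appTop).commRingCatIsoToRingEquiv, fun c => ?_, fun U hy f hle => ?_⟩
  · show ((Scheme.ΓSpecIso (X.residueField (h y))).inv ≫ (g.fiberToSpecResidueField (h y)).appTop ≫ θ.appTop) c = _
    have e : θ ≫ g.fiberToSpecResidueField (h y) = g'.fiberToSpecResidueField y ≫ Spec.map (h.residueFieldMap y) := hsq.w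
    have e2 := congrArg Scheme.Hom.appTop e
    rw [Scheme.Hom.comp_appTop, Scheme.Hom.comp_appTop] at e2
    rw [e2, ← Category.assoc, ← Scheme.ΓSpecIso_inv_naturality]
    rfl
  · show θ.appTop ((g.fiberι (h y)).appLE (g ⁻¹ᵁ U) ⊤ (fiberι_mem g (h y) hy) f) =
      (g'.fiberι y).appLE (g' ⁻¹ᵁ (h ⁻¹ᵁ U)) ⊤ (fiberι_mem g' y hy) (p.appLE _ _ hle f)
    have e1 : θ ≫ g.fiberι (h y) = g'.fiberι y ≫ p := pullback.lift_fst _ _ _
    have e4 : (g.fiberι (h y)).appLE (g ⁻¹ᵁ U) ⊤ (fiberι_mem g (h y) hy) ≫ θ.appTop =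
        p.appLE _ _ hle ≫ (g'.fiberι y).appLE (g' ⁻¹ᵁ (h ⁻¹ᵁ U)) ⊤ (fiberι_mem g' y hy) := by
      rw [show θ.appTop = θ.appLE ⊤ ⊤ le_top by simp [Scheme.Hom.appLE],
        Scheme.Hom.appLE_comp_appLE, Scheme.Hom.appLE_comp_appLE]
      simp only [e1]
    exact congr($e4 f)

variable [IsFinite g] [IsFinite g']

/-- Ranks and norms do not change when the residue field does not. -/
lemma exists_fib_norm (sq : IsPullback p g' g h) (y : Z) [IsIso (h.residueFieldMap y)] :
    rk g' y = rk g (h y) ∧ ∃ e : Γ(g.fiber (h y), ⊤) ≃+* Γ(g'.fiber y, ⊤),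
      (∀ c, e (scal g (h y) c) = scal g' y (h.residueFieldMap y c)) ∧
      (∀ x, nrmFib g' y (e x) = h.residueFieldMap y (nrmFib g (h y) x)) ∧
      ∀ (U : X.Opens) (hy : h y ∈ U) (f : Γ(X', g ⁻¹ᵁ U)) (hle : g' ⁻¹ᵁ (h ⁻¹ᵁ U) ≤ p ⁻¹ᵁ (g ⁻¹ᵁ U)),
        e (toFib g (h y) U hy f) = toFib g' y (h ⁻¹ᵁ U) hy (p.appLE _ _ hle f) := by
  obtain ⟨e, he1, he2⟩ := exists_fib_equiv sq y
  letI := fibAlg g (h y)
  letI := fibAlg g' y
  let e₁ := (asIso (h.residueFieldMap y)).commRingCatIsoToRingEquiv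
  have hc : (algebraMap (Z.residueField y) Γ(g'.fiber y, ⊤)).comp (e₁ : _ →+* _) =
      (e : _ →+* _).comp (algebraMap (X.residueField (h y)) Γ(g.fiber (h y), ⊤)) :=
    RingHom.ext fun c => (he1 c).symm
  refine ⟨(Algebra.finrank_eq_of_equiv_equiv e₁ e hc).symm, e, he1, fun x => ?_, he2⟩
  have := Algebra.norm_eq_of_equiv_equiv e₁ e hc x
  show Algebra.norm (Z.residueField y) (e x) = e₁ (Algebra.norm (X.residueField (h y)) x)
  rw [this, RingEquiv.apply_symm_apply]

end bc

variable {X X' : Scheme.{u}} {g : X' ⟶ X} [IsFinite g] {D : ℕ}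
  (hD : ∀ η ∈ gens X, rk g η * (D / rk g η) = D)

lemma isIso_residueFieldMap {V : X.Opens} (hV : IsIso (toX hD ∣_ V)) {y : model hD} (hy : toX hD y ∈ V) :
    IsIso ((toX hD).residueFieldMap y) := by
  haveI : IsOpenImmersion ((toX hD ⁻¹ᵁ V).ι ≫ toX hD) := by
    rw [← morphismRestrict_ι]; infer_instance
  have h1 : IsIso (((toX hD ⁻¹ᵁ V).ι ≫ toX hD).stalkMap ⟨y, hy⟩) := inferInstance
  rw [Scheme.Hom.stalkMap_comp] at h1
  haveI := h1
  let x₀ : (toX hD ⁻¹ᵁ V).toScheme := ⟨y, hy⟩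
  haveI h2 : IsIso ((toX hD ⁻¹ᵁ V).ι.stalkMap x₀) := inferInstance
  haveI hst : IsIso ((toX hD).stalkMap y) :=
    @IsIso.of_isIso_comp_right _ _ _ _ _ ((toX hD).stalkMap y) ((toX hD ⁻¹ᵁ V).ι.stalkMap x₀) h2 h1
  refine (ConcreteCategory.isIso_iff_bijective _).2
    ⟨((toX hD).residueFieldMap y).hom.injective, fun c => ?_⟩
  obtain ⟨s, rfl⟩ := (model hD).residue_surjective y c
  obtain ⟨t, rfl⟩ := (ConcreteCategory.bijective_of_isIso ((toX hD).stalkMap y)).2 s
  exact ⟨X.residue _ t, congr($(Scheme.residue_residueFieldMap (toX hD) y) t)⟩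

variable [IsNoetherian X] [IsReduced X]

lemma toX_mem_gens {η' : model hD} (h' : η' ∈ gens (model hD)) : toX hD η' ∈ gens X := by
  haveI := isFinite_toX hD
  have hfin : (toX hD ⁻¹' gens X).Finite := by
    have hX : (gens X).Finite := genericPoints.finite NoetherianSpace.finite_irreducibleComponents
    rw [← Set.biUnion_preimage_singleton]
    exact hX.biUnion fun η _ => (toX hD).finite_preimage_singleton η
  have hd : closure (toX hD ⁻¹' gens X) = Set.univ := by
    rw [← dense_iff_closure_eq, dense_iff_inter_open]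
    rintro O hO ⟨x, hx⟩
    obtain ⟨y, hyO, hy⟩ := exists_over_gens hD (O := ⟨O, hO⟩) hx
    exact ⟨y, hyO, hy⟩
  have h2 : η' ∈ closure (toX hD ⁻¹' gens X) := hd ▸ Set.mem_univ η'
  rw [← Set.biUnion_of_singleton (toX hD ⁻¹' gens X), hfin.closure_biUnion] at h2
  obtain ⟨y, hy, hyη⟩ := Set.mem_iUnion₂.1 h2
  have h0 : y ⤳ η' := specializes_iff_mem_closure.mpr hyη
  have h1 : η' ⤳ y := specializes_iff_mem_closure.mpr
    (h'.2 isIrreducible_singleton.closure (closure_minimal
      (Set.singleton_subset_iff.mpr (specializes_iff_mem_closure.mp h0)) isClosed_closure)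
      (subset_closure rfl))
  rw [(h1.antisymm h0).eq]
  exact hy

lemma exists_iso_gen {η : X} (hη : η ∈ gens X) : ∃ V : X.Opens, η ∈ V ∧ IsIso (toX hD ∣_ V) := by
  letI : Field (X.presheaf.stalk η) := (isField_stalk_of_gen hη).toField
  exact exists_iso_of_normal hD
where
  isField_stalk_of_gen {η : X} (hη : η ∈ gens X) : IsField (X.presheaf.stalk η) := by
    obtain ⟨V₀, hV₀, hV₀'⟩ := exists_nbhd_gen' hη
    have hinj : Function.Injective (evS (specializes_refl η) : X.presheaf.stalk η →+* _) := by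
      refine (injective_iff_map_eq_zero _).mpr fun a ha => ?_
      obtain ⟨U, hηU, c, rfl⟩ := X.presheaf.exists_germ_eq a
      rw [evS_germ] at ha
      have hr : rres (inf_le_left : U ⊓ V₀ ≤ U) c = 0 := eq_of_evaluation_eq fun ζ hζ hζV => by
        obtain rfl := hV₀' ζ hζ hζV.2
        rw [evaluation_rres, map_zero]
        exact ha
      have := congrArg (X.presheaf.germ (U ⊓ V₀) η ⟨hηU, hV₀⟩) hr
      rw [map_zero] at this
      rw [← this]
      exact (X.presheaf.germ_res_apply' _ _ _ c).symm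
    have hbij : Function.Bijective (evS (specializes_refl η) : X.presheaf.stalk η →+* _) := by
      refine ⟨hinj, fun c => ?_⟩
      obtain ⟨s, rfl⟩ := X.residue_surjective η c
      refine ⟨s, ?_⟩
      show X.residue η (X.presheaf.stalkSpecializes (specializes_refl η) s) = _
      rw [TopCat.Presheaf.stalkSpecializes_refl]
      rfl
    exact (RingEquiv.ofBijective _ hbij).toMulEquiv.isField (Field.toIsField _)
  exists_nbhd_gen' {η : X} (hη : η ∈ gens X) :
      ∃ V : X.Opens, η ∈ V ∧ ∀ η' ∈ gens X, η' ∈ V → η' = η := by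
    have hfin : (gens X).Finite := genericPoints.finite NoetherianSpace.finite_irreducibleComponents
    refine ⟨⟨(⋃ ζ ∈ gens X \ {η}, closure {ζ})ᶜ, ((hfin.sdiff).isClosed_biUnion
      fun _ _ => isClosed_closure).isOpen_compl⟩, fun hz => ?_, fun η' hη' hmem => ?_⟩
    · obtain ⟨ζ, ⟨hζ, hne⟩, hzζ⟩ := Set.mem_iUnion₂.mp hz
      have h0 : ζ ⤳ η := specializes_iff_mem_closure.mpr hzζ
      have h1 : η ⤳ ζ := specializes_iff_mem_closure.mpr
        (hη.2 isIrreducible_singleton.closure (closure_minimal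
          (Set.singleton_subset_iff.mpr (specializes_iff_mem_closure.mp h0)) isClosed_closure)
          (subset_closure rfl))
      exact hne (h0.antisymm h1).eq
    · by_contra hne
      exact hmem (Set.mem_iUnion₂.mpr ⟨η', ⟨hη', hne⟩, subset_closure rfl⟩)

/-- Functions on the chart are `B(U)`. -/
def chartVal {U : X.Opens} (hU : IsAffineOpen U) (b : Γ(model hD, toX hD ⁻¹ᵁ U)) : BB g D U :=
  QCAlgLib.gammaAff (strF_coequifibered hD) U hU b

lemma chartVal_surjective {U : X.Opens} (hU : IsAffineOpen U) : Function.Surjective (chartVal hD hU) :=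
  (ConcreteCategory.bijective_of_isIso (QCAlgLib.gammaAff (strF_coequifibered hD) U hU)).2

lemma evaluation_chartVal {U : X.Opens} (hU : IsAffineOpen U) (b : Γ(model hD, toX hD ⁻¹ᵁ U))
    (y : model hD) (hy : toX hD y ∈ gens X) (hyU : toX hD y ∈ U) :
    (model hD).evaluation (toX hD ⁻¹ᵁ U) y hyU b =
      (toX hD).residueFieldMap y ((chartVal hD hU b).1 ⟨toX hD y, hy, hyU⟩) := by
  obtain ⟨V, hyV, hV⟩ := exists_iso_gen hD hy
  obtain ⟨c, hc, hyc⟩ := hU.exists_basicOpen_le (V := U ⊓ V) ⟨toX hD y, hyU, hyV⟩ hyU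
  have hbij : Function.Bijective ((toX hD).app (X.basicOpen c)) := by
    haveI := hV
    have : IsIso ((toX hD ∣_ V).app (V.ι ⁻¹ᵁ X.basicOpen c)) := inferInstance
    rw [morphismRestrict_app] at this
    have hVc : V.ι ''ᵁ (V.ι ⁻¹ᵁ X.basicOpen c) = X.basicOpen c :=
      V.ι.image_preimage_eq_opensRange_inf _ |>.trans (by
        rw [Scheme.Opens.opensRange_ι]; exact inf_eq_right.2 (hc.trans inf_le_right))
    have h2 : ∀ W : X.Opens, W = X.basicOpen c → IsIso ((toX hD).app W) → IsIso ((toX hD).app (X.basicOpen c)) := by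
      rintro _ rfl h; exact h
    haveI := h2 _ hVc (by
      refine @IsIso.of_isIso_comp_right _ _ _ _ _ _ _ ?_ this
      exact @Functor.map_isIso _ _ _ _ _ _ _ _ (by rw [eqToHom_op]; infer_instance))
    exact ConcreteCategory.bijective_of_isIso _
  obtain ⟨r, hr⟩ := hbij.2 (rres ((toX hD).preimage_mono (X.basicOpen_le c)) b)
  have h1 : pr (X.basicOpen_le c) (chartVal hD hU b).1 = ev (X.basicOpen c) r := by
    have e := congr($(QCAlgLib.gammaAff_naturality (strF_coequifibered hD)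
      (homOfLE (AffineZariskiSite.basicOpen_le (QCAlgLib.site U hU) c))) b)
    have e2 := congr($(QCAlgLib.str_gammaAff (strF_coequifibered hD) (X.basicOpen c) (hU.basicOpen c)) r)
    refine (congrArg Subtype.val e).symm.trans (Eq.trans ?_ (congrArg Subtype.val e2))
    exact congrArg (fun z => (QCAlgLib.gammaAff (strF_coequifibered hD) (X.basicOpen c) (hU.basicOpen c) z).1) hr.symm
  have h2 := congrFun h1 ⟨toX hD y, hy, hyc⟩
  rw [ev_apply] at h2
  refine Eq.trans ?_ (congrArg ((toX hD).residueFieldMap y) h2.symm)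
  rw [Scheme.evaluation_naturality_apply, hr]
  exact (evaluation_rres ((toX hD).preimage_mono (X.basicOpen_le c)) (η := y) hyc b).symm

variable [Surjective g]

/-- The pull-back of `g`. -/
abbrev bc : pullback g (toX hD) ⟶ model hD := pullback.snd g (toX hD)

lemma rk_bc (η' : model hD) (hη' : η' ∈ gens (model hD)) : rk (bc hD) η' = rk g (toX hD η') := by
  obtain ⟨V, hV, hiso⟩ := exists_iso_gen hD (toX_mem_gens hD hη')
  haveI := isIso_residueFieldMap hD hiso hV
  exact (exists_fib_norm (IsPullback.of_hasPullback g (toX hD)) η').1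

/-- Norms exist on the model. -/
theorem hasNm_bc : HasNm (bc hD) D := by
  classical
  intro z V hz f
  obtain ⟨U, hU, hzU, -⟩ := exists_isAffineOpen_mem_and_subset (X := X) (x := toX hD z) (U := ⊤) trivial
  haveI := isFinite_toX hD
  set O := toX hD ⁻¹ᵁ U
  have hO : IsAffineOpen O := hU.preimage (toX hD)
  obtain ⟨b, hbV, hzb⟩ := hO.exists_basicOpen_le (V := V) ⟨z, hz⟩ hzU
  set W := (model hD).basicOpen b
  have hPO : IsAffineOpen (bc hD ⁻¹ᵁ O) := hO.preimage (bc hD)
  have hpre : bc hD ⁻¹ᵁ W = (pullback g (toX hD)).basicOpen ((bc hD).app O b) := (bc hD).preimage_basicOpen b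
  have hWO : W ≤ O := (model hD).basicOpen_le b
  haveI := hPO.isLocalization_of_eq_basicOpen ((bc hD).app O b) (homOfLE ((bc hD).preimage_mono hWO)) hpre
  letI := ((pullback g (toX hD)).presheaf.map (homOfLE ((bc hD).preimage_mono hWO)).op).hom.toAlgebra
  obtain ⟨⟨num, ⟨_, k, rfl⟩⟩, hnum⟩ := IsLocalization.surj (Submonoid.powers ((bc hD).app O b))
    (rres ((bc hD).preimage_mono hbV) f)
  have hle : bc hD ⁻¹ᵁ O ≤ pullback.fst g (toX hD) ⁻¹ᵁ (g ⁻¹ᵁ U) := by
    rw [← Scheme.Hom.comp_preimage, ← Scheme.Hom.comp_preimage, pullback.condition]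
  obtain ⟨m, β, a, hsum⟩ : ∃ (m : ℕ) (β : Fin m → Γ(model hD, O)) (a : Fin m → Γ(X', g ⁻¹ᵁ U)),
      num = ∑ i, (bc hD).app O (β i) * (pullback.fst g (toX hD)).appLE _ _ hle (a i) := by
    obtain ⟨h', hpo⟩ := Groth.Agent.Thick.Unram.isPushout_appLE (IsPullback.of_hasPullback g (toX hD)).flip
      hU hO le_rfl
    exact exists_sum_of_isPushout hpo num
  let x := fun i => (chartVal hD hU (β i)).1
  obtain ⟨y, hy⟩ := chartVal_surjective hD hU ⟨nV g D x a, (isClosedN_BB g D U).2 m x a fun i => (chartVal hD hU (β i)).2⟩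
  obtain ⟨(v : Γ(model hD, W)), (hv : rres hWO b * v = 1)⟩ :=
    isUnit_iff_exists_inv.1 (RingedSpace.isUnit_res_basicOpen (model hD).toRingedSpace b)
  refine ⟨W, hbV, v ^ (k * D) * rres hWO y, hzb, fun η' hη' hηW => ?_⟩
  have hgen := toX_mem_gens hD hη'
  have hηO : η' ∈ O := hWO hηW
  obtain ⟨V₁, hV₁, hiso⟩ := exists_iso_gen hD hgen
  haveI := isIso_residueFieldMap hD hiso hV₁
  obtain ⟨hrk, e, he1, he3, he2⟩ := exists_fib_norm (IsPullback.of_hasPullback g (toX hD)) η'
  have hnumfib : toFib (bc hD) η' O hηO num = e (combFib g x a ⟨toX hD η', hgen, hηO⟩) := by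
    rw [hsum, map_sum, combFib, map_sum]
    refine Finset.sum_congr rfl fun i _ => ?_
    rw [map_mul, map_mul, toFib_app, he1, evaluation_chartVal hD hU (β i) η' hgen hηO, ← he2 U hηO (a i) hle]
  have h3 : nAt (bc hD) η' O hηO num ^ (D / rk (bc hD) η') = (model hD).evaluation O η' hηO y := by
    rw [nAt_eq_nrmFib, hnumfib, he3, hrk, evaluation_chartVal hD hU y η' hgen hηO, hy, ← map_pow]
    rfl
  have h4 : nAt (bc hD) η' W hηW (rres ((bc hD).preimage_mono hbV) f) ^ (D / rk (bc hD) η') *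
      (model hD).evaluation O η' hηO b ^ (k * D) = (model hD).evaluation O η' hηO y := by
    have e0 : k * D = k * rk (bc hD) η' * (D / rk (bc hD) η') := by rw [mul_assoc, hrk, hD (toX hD η') hgen]
    rw [← h3, e0, pow_mul, ← mul_pow]
    congr 1
    have h5 := congrArg (nAt (bc hD) η' W hηW) hnum
    rw [nAt_mul] at h5
    erw [nAt_res (bc hD) η' hWO hηW, nAt_res (bc hD) η' hWO hηW] at h5
    dsimp only at h5
    rw [← map_pow, nAt_app, map_pow, ← pow_mul] at h5
    exact h5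
  rw [map_mul, map_pow, evaluation_rres, ← h4, mul_left_comm, ← mul_pow]
  rw [← evaluation_rres hWO hηW b, ← map_mul, mul_comm v, hv, map_one, one_pow, mul_one]
where
  exists_sum_of_isPushout {R B A Q : CommRingCat.{u}} {f₁ : R ⟶ B} {f₂ : R ⟶ A} {i₁ : B ⟶ Q} {i₂ : A ⟶ Q}
      (h : IsPushout f₁ f₂ i₁ i₂) (q : Q) :
      ∃ (m : ℕ) (b : Fin m → B) (a : Fin m → A), q = ∑ i, i₁ (b i) * i₂ (a i) := by
    letI := f₁.hom.toAlgebra
    letI := f₂.hom.toAlgebra
    letI := i₁.hom.toAlgebra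
    letI := i₂.hom.toAlgebra
    letI : Algebra R Q := (f₁ ≫ i₁).hom.toAlgebra
    haveI : IsScalarTower R B Q := IsScalarTower.of_algebraMap_eq' rfl
    haveI : IsScalarTower R A Q := IsScalarTower.of_algebraMap_eq fun r => congr($(h.w) r)
    have hP : Algebra.IsPushout R B A Q := CommRingCat.isPushout_iff_isPushout.mp h
    obtain ⟨w, rfl⟩ := (Algebra.IsPushout.equiv R B A Q).surjective q
    induction w using TensorProduct.induction_on with
    | zero => exact ⟨0, Fin.elim0, Fin.elim0, by simp⟩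
    | tmul b a => exact ⟨1, fun _ => b, fun _ => a, by simp [Algebra.IsPushout.equiv_tmul]; rfl⟩
    | add w w' hw hw' =>
      obtain ⟨m, b, a, e⟩ := hw
      obtain ⟨m', b', a', e'⟩ := hw'
      exact ⟨m + m', Fin.append b b', Fin.append a a', by simp [Fin.sum_univ_add, e, e']⟩

end Groth.Agent.AmpleLib.FinModel

end
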