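import Groth.Agent.AmpleLib.FinModel.Alg
import Groth.Agent.AmpleLib.GenNorm.Desc
import Groth.Agent.QCAlgLib.OfSite

/-!
# The finite birational model on which norms exist
-/

set_option autoImplicit false
set_option linter.style.haveILetI false
universe u

open CategoryTheory CategoryTheory.Limits AlgebraicGeometry TopologicalSpace Opposite

noncomputable section

namespace Groth.Agent.AmpleLib.FinModel

open Groth.Agent.AmpleLib.GenNorm Groth.Agent.QCoh
open Scheme (AffineZariskiSite)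

variable {X X' : Scheme.{u}} (g : X' ⟶ X) (D : ℕ)

/-- `U ↦ B(U)` on the affine opens. -/
def siteF : X.AffineZariskiSiteᵒᵖ ⥤ CommRingCat.{u} where
  obj U := CommRingCat.of (BB g D U.unop.1)
  map {U V} i := CommRingCat.ofHom (((pr (show V.unop.1 ≤ U.unop.1 from AffineZariskiSite.toOpens_mono i.unop.le)).comp
    (BB g D U.unop.1).subtype).codRestrict (BB g D V.unop.1) fun x =>
      pr_mem (show V.unop.1 ≤ U.unop.1 from AffineZariskiSite.toOpens_mono i.unop.le) x.2)
  map_id U := by ext x; rfl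
  map_comp i j := by ext x; rfl

/-- The structure map. -/
def strF : (AffineZariskiSite.toOpensFunctor X).op ⋙ X.presheaf ⟶ siteF g D where
  app U := CommRingCat.ofHom ((ev U.unop.1).codRestrict (BB g D U.unop.1) (isClosedN_BB g D U.unop.1).1)
  naturality U V i := by
    refine CommRingCat.hom_ext (RingHom.ext fun r => Subtype.ext ?_)
    exact (pr_ev (AffineZariskiSite.toOpens_mono i.unop.le) r).symm

variable {g D}

lemma strF_coequifibered [IsFinite g] (hD : ∀ η ∈ gens X, rk g η * (D / rk g η) = D) :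
    (strF g D).Coequifibered := by
  refine AffineZariskiSite.coequifibered_iff_forall_isLocalizationAway.2 fun U c => ?_
  letI := ((siteF g D).map (homOfLE (U.basicOpen_le c)).op).hom.toAlgebra
  refine (isLocalization_iff _ _).2 ⟨?_, ?_, ?_⟩
  · rintro ⟨_, n, rfl⟩
    obtain ⟨v, hv, hcv⟩ := inv_mem_basicOpen (g := g) (D := D) c
    rw [map_pow]
    refine IsUnit.pow _ (IsUnit.of_mul_eq_one (⟨v, hv⟩ : BB g D (X.basicOpen c)) (Subtype.ext ?_))
    exact (congrArg (· * v) (pr_ev (X.basicOpen_le c) c)).trans hcv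
  · rintro ⟨(x : Kp (X.basicOpen c)), hx⟩
    obtain ⟨k, y, hy, e⟩ := exists_pow_mul_eq hD U.2 c hx
    refine ⟨⟨⟨y, hy⟩, ⟨_, k, rfl⟩⟩, Subtype.ext ?_⟩
    show x * pr (X.basicOpen_le c) ((ev U.1 c) ^ k) = pr (X.basicOpen_le c) y
    rw [map_pow, pr_ev, mul_comm, e]
  · rintro ⟨y, hy⟩ ⟨y', hy'⟩ he
    refine ⟨⟨_, 1, rfl⟩, Subtype.ext ?_⟩
    have h0 : pr (X.basicOpen_le c) (y - y') = 0 := by
      rw [map_sub]; exact sub_eq_zero.2 (congrArg Subtype.val he)
    show ev U.1 c ^ 1 * y = ev U.1 c ^ 1 * y'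
    rw [pow_one, ← sub_eq_zero, ← mul_sub, mul_pr_eq_zero c h0]

variable [IsFinite g] (hD : ∀ η ∈ gens X, rk g η * (D / rk g η) = D)

/-- The model. -/
abbrev model : Scheme.{u} := QCAlgLib.spec (strF_coequifibered hD)

/-- Its morphism to `X`. -/
abbrev toX : model hD ⟶ X := QCAlgLib.π (strF_coequifibered hD)

/-- Over an affine open the model is `Spec B(U)`. -/
theorem restrict_iff (P : MorphismProperty Scheme.{u}) [P.RespectsIso] {U : X.Opens} (hU : IsAffineOpen U) :
    P (toX hD ∣_ U) ↔ P (Spec.map (QCAlgLib.strAff (strF g D) U hU)) := by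
  have sq := QCAlgLib.ι_π (strF_coequifibered hD) U hU
  have hrange : (toX hD) ⁻¹ᵁ hU.fromSpec.opensRange =
      (QCAlgLib.ι (strF_coequifibered hD) U hU).opensRange := by
    rw [hU.opensRange_fromSpec]
    exact QCAlgLib.π_preimage _ U hU
  have pb := IsOpenImmersion.isPullback _ (QCAlgLib.ι (strF_coequifibered hD) U hU) hU.fromSpec (toX hD) sq hrange
  refine Eq.to_iff (congrArg (fun V => P (toX hD ∣_ V)) hU.opensRange_fromSpec.symm) |>.trans ?_
  exact (P.arrow_mk_iso_iff (morphismRestrictOpensRange (toX hD) hU.fromSpec)).trans (P.arrow_mk_iso_iff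
    (Arrow.isoMk pb.flip.isoPullback.symm (Iso.refl _) (by simp)))

theorem isFinite_toX [IsNoetherian X] : IsFinite (toX hD) := by
  rw [IsZariskiLocalAtTarget.iff_of_iSup_eq_top (P := @IsFinite) _ (iSup_affineOpens_eq_top X)]
  rintro ⟨U, hU⟩
  exact (restrict_iff hD @IsFinite hU).2 ((IsFinite.SpecMap_iff _).2 (finite_BB (g := g) (D := D) hU))

theorem isIso_of_surjective [IsReduced X] {U : X.Opens} (hU : IsAffineOpen U)
    (h : ∀ x ∈ BB g D U, ∃ r, ev U r = x) : IsIso (toX hD ∣_ U) := by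
  refine (restrict_iff hD (MorphismProperty.isomorphisms Scheme) hU).2 ?_
  show IsIso (Spec.map _)
  rw [isIso_SpecMap_iff]
  exact ⟨fun a b hab => eq_of_evaluation_eq fun η hη hηU =>
      congrFun (congrArg Subtype.val hab) ⟨η, hη, hηU⟩,
    fun ⟨x, hx⟩ => by obtain ⟨r, rfl⟩ := h x hx; exact ⟨r, rfl⟩⟩

theorem exists_iso_of_free [IsReduced X] {z : X} {T : X.Opens} (hzT : z ∈ T)
    (hT : FlatMod.IsFinLocFree ((pushO g).restrict T.ι)) :
    ∃ U : X.Opens, z ∈ U ∧ IsIso (toX hD ∣_ U) := by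
  classical
  obtain ⟨U₁, d, b₁, hzU₁, hb₁⟩ := exists_frame_of_restrict hT hzT
  obtain ⟨U, hU, hzU, hUle⟩ := exists_isAffineOpen_mem_and_subset (X := X) (x := z) (U := U₁) hzU₁
  have hb := isFrame_restrict hb₁ hUle
  refine ⟨U, hzU, isIso_of_surjective hD hU fun x hx => ?_⟩
  have hcl : IsClosedN g D U (ev U).range := by
    refine ⟨fun r => ⟨r, rfl⟩, fun m b a hb' => ?_⟩
    choose r hr using hb'
    let f : Γ(X', g ⁻¹ᵁ U) := ∑ j, g.app U (r j) * a j
    refine ⟨nrm g U f ^ (D / d), funext fun η => ?_⟩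
    have h1 := isNm_nrm g D hU hb f (k := D / d) (fun η' _ hη' => by rw [rk_eq g hU hη' hb]) η.1 η.2.1 η.2.2
    rw [ev_apply, h1, nV, nAt_eq_nrmFib]
    congr 2
    rw [combFib, map_sum]
    refine Finset.sum_congr rfl fun j _ => ?_
    rw [map_mul, toFib_app, ← hr j, ev_apply]
  exact BB_le g D hcl hx

theorem exists_iso_of_normal [IsNoetherian X] [IsReduced X] {z : X} [IsDomain (X.presheaf.stalk z)]
    [IsIntegrallyClosed (X.presheaf.stalk z)] : ∃ U : X.Opens, z ∈ U ∧ IsIso (toX hD ∣_ U) := by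
  classical
  obtain ⟨η, hη, h⟩ := exists_gen_specializes z
  obtain ⟨V₀, hzV₀, hV₀⟩ := exists_nbhd_gen hη h
  obtain ⟨U, hU, hzU, hUle⟩ := exists_isAffineOpen_mem_and_subset (X := X) (x := z) (U := V₀) hzV₀
  have hηU : η ∈ U := h.mem_open U.2 hzU
  letI := ((ev U).codRestrict (BB g D U) (isClosedN_BB g D U).1).toAlgebra
  haveI : Module.Finite Γ(X, U) (BB g D U) := finite_BB hU
  letI : Algebra (X.presheaf.stalk z) (X.residueField η) := (evS h).toAlgebra
  haveI : FaithfulSMul (X.presheaf.stalk z) (X.residueField η) :=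
    (faithfulSMul_iff_algebraMap_injective _ _).mpr (evS_injective hη h)
  haveI : IsFractionRing (X.presheaf.stalk z) (X.residueField η) := IsFractionRing.of_field _ _ (exists_div h)
  have key : ∀ x : BB g D U, ∃ (W : X.Opens) (hle : W ≤ U) (_ : z ∈ W) (r : Γ(X, W)),
      pr hle x.1 = ev W r := by
    intro x
    obtain ⟨p, hpm, hp⟩ := IsIntegral.of_finite Γ(X, U) x
    obtain ⟨a, ha⟩ := (IsIntegrallyClosed.isIntegral_iff (R := X.presheaf.stalk z) (x := x.1 ⟨η, hη, hηU⟩)).mp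
      ⟨p.map (X.presheaf.germ U z hzU).hom, hpm.map _, by
        have h1 := congrArg (fun y : BB g D U => (y.1 ⟨η, hη, hηU⟩ : X.residueField η)) hp
        let θ : BB g D U →+* X.residueField η :=
          (Pi.evalRingHom (fun η' : GU U => X.residueField η'.1) ⟨η, hη, hηU⟩).comp (BB g D U).subtype
        have h2 := Polynomial.hom_eval₂ p (algebraMap Γ(X, U) (BB g D U)) θ x
        rw [Polynomial.eval₂_map]
        refine Eq.trans ?_ h1
        refine Eq.trans ?_ h2.symm
        congr 1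
        refine RingHom.ext fun r => ?_
        show evS h (X.presheaf.germ U z hzU r) = _
        rw [evS_germ]
        rfl⟩
    obtain ⟨W, hzW, r, rfl⟩ := X.presheaf.exists_germ_eq a
    refine ⟨W ⊓ U, inf_le_right, ⟨hzW, hzU⟩, rres inf_le_left r, funext fun ζ => ?_⟩
    obtain rfl := hV₀ ζ.1 ζ.2.1 (hUle ζ.2.2.2)
    rw [ev_apply, evaluation_rres]
    exact (ha.symm.trans (evS_germ h hzW r))
  choose W hle hzW r hr using key
  obtain ⟨S, hS⟩ := Module.Finite.fg_top (R := Γ(X, U)) (M := BB g D U)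
  obtain ⟨c, hc, hzc⟩ := hU.exists_basicOpen_le (V := U ⊓ S.inf W) ⟨z, hzU, by
    refine Finset.inf_induction (p := fun V : X.Opens => z ∈ V) trivial (fun _ h1 _ h2 => ⟨h1, h2⟩)
      fun x _ => hzW x⟩ hzU
  refine ⟨X.basicOpen c, hzc, isIso_of_surjective hD (hU.basicOpen c) fun x hx => ?_⟩
  have hpr : ∀ y : BB g D U, pr (X.basicOpen_le c) y.1 ∈ (ev (X.basicOpen c)).range := by
    intro y
    have hy : y ∈ Submodule.span Γ(X, U) (S : Set (BB g D U)) := hS ▸ Submodule.mem_top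
    induction hy using Submodule.span_induction with
    | mem y hy =>
      refine ⟨rres (hc.trans (inf_le_right.trans (Finset.inf_le hy))) (r y), ?_⟩
      rw [← pr_ev, ← hr y]
      rfl
    | zero => exact (map_zero (pr (X.basicOpen_le c))).symm ▸ zero_mem _
    | add y y' _ _ h1 h2 => exact (map_add (pr (X.basicOpen_le c)) y.1 y'.1).symm ▸ add_mem h1 h2
    | smul s y _ h1 =>
      show pr (X.basicOpen_le c) (ev U s * y.1) ∈ _
      rw [map_mul, pr_ev]
      exact mul_mem ⟨_, rfl⟩ h1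
  obtain ⟨k, y, hy, e⟩ := exists_pow_mul_eq hD hU c hx
  obtain ⟨r', hr'⟩ := hpr ⟨y, hy⟩
  obtain ⟨(v : Γ(X, X.basicOpen c)), (hv : rres (X.basicOpen_le c) c * v = 1)⟩ := isUnit_iff_exists_inv.1 (RingedSpace.isUnit_res_basicOpen X.toRingedSpace c)
  have hv' : ev (X.basicOpen c) v * ev (X.basicOpen c) (rres (X.basicOpen_le c) c) = 1 := by
    rw [← map_mul, mul_comm]; exact (congrArg _ hv).trans (map_one _)
  refine ⟨v ^ k * r', ?_⟩
  rw [map_mul, map_pow, hr', ← e, ← mul_assoc, ← mul_pow, hv', one_pow, one_mul]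

theorem exists_iso_of [IsNoetherian X] [IsReduced X] {z : X}
    (hz : (IsDomain (X.presheaf.stalk z) ∧ IsIntegrallyClosed (X.presheaf.stalk z)) ∨
      ∃ T : X.Opens, z ∈ T ∧ FlatMod.IsFinLocFree ((pushO g).restrict T.ι)) :
    ∃ U : X.Opens, z ∈ U ∧ IsIso (toX hD ∣_ U) := by
  rcases hz with ⟨_, _⟩ | ⟨T, hzT, hT⟩
  · exact exists_iso_of_normal hD
  · exact exists_iso_of_free hD hzT hT

theorem isReduced_model : IsReduced (model hD) := by
  have h : ∀ U : X.AffineZariskiSite, _root_.IsReduced ((siteF g D).obj (op U)) := fun U =>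
    isReduced_of_injective (show (siteF g D).obj (op U) →+* Kp U.1 from (BB g D U.1).subtype) Subtype.val_injective
  let 𝒰 := (QCAlgLib.glueData (strF_coequifibered hD)).cover
  haveI : ∀ i, IsReduced (𝒰.X i) := fun i => by
    haveI := h i
    exact inferInstanceAs (IsReduced (Spec ((siteF g D).obj (op i))))
  exact IsReduced.of_openCover _ 𝒰

/-- Opens of the model meeting no generic point of `X` are empty. -/
theorem exists_over_gens {O : (model hD).Opens} {x : model hD} (hx : x ∈ O) :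
    ∃ y ∈ O, toX hD y ∈ gens X := by
  obtain ⟨U, hU, hxU, -⟩ := exists_isAffineOpen_mem_and_subset (X := X) (x := toX hD x) (U := ⊤) trivial
  obtain ⟨p, rfl⟩ : x ∈ (QCAlgLib.ι (strF_coequifibered hD) U hU).opensRange := by
    rw [← QCAlgLib.π_preimage]; exact hxU
  obtain ⟨_, ⟨_, ⟨b, rfl⟩, rfl⟩, hpb, hb⟩ := PrimeSpectrum.isBasis_basic_opens.exists_subset_of_mem_open
    (show p ∈ ((QCAlgLib.ι (strF_coequifibered hD) U hU) ⁻¹ᵁ O : Set _) from hx)
    ((QCAlgLib.ι (strF_coequifibered hD) U hU) ⁻¹ᵁ O).2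
  have hb0 : (show BB g D U from b) ≠ 0 := fun h0 => hpb (h0 ▸ zero_mem p.asIdeal)
  obtain ⟨η, hη⟩ : ∃ η : GU U, (show BB g D U from b).1 η ≠ 0 := by
    by_contra! h0
    exact hb0 (Subtype.ext (funext h0))
  let θ : BB g D U →+* X.residueField η.1 :=
    (Pi.evalRingHom (fun η' : GU U => X.residueField η'.1) η).comp (BB g D U).subtype
  let q : PrimeSpectrum (BB g D U) := ⟨RingHom.ker θ, RingHom.ker_isPrime θ⟩
  refine ⟨QCAlgLib.ι (strF_coequifibered hD) U hU q, hb (show b ∉ q.asIdeal from hη), ?_⟩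
  have h1 : toX hD (QCAlgLib.ι (strF_coequifibered hD) U hU q) =
      hU.fromSpec (Spec.map (QCAlgLib.strAff (strF g D) U hU) q) := by
    rw [← Scheme.Hom.comp_apply, QCAlgLib.ι_π]; rfl
  rw [h1]
  have h2 : (Spec.map (QCAlgLib.strAff (strF g D) U hU) q : PrimeSpectrum Γ(X, U)) = hU.primeIdealOf ⟨η.1, η.2.2⟩ := by
    refine PrimeSpectrum.ext (Ideal.ext fun r => ?_)
    show X.evaluation U η.1 η.2.2 r = 0 ↔ _
    rw [Scheme.evaluation_eq_zero_iff_notMem_basicOpen]
    conv_lhs => rw [← hU.fromSpec_primeIdealOf ⟨η.1, η.2.2⟩]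
    show hU.primeIdealOf ⟨η.1, η.2.2⟩ ∉ hU.fromSpec ⁻¹ᵁ X.basicOpen r ↔ _
    rw [hU.fromSpec_preimage_basicOpen]
    exact not_not
  exact (congrArg hU.fromSpec h2).trans (hU.fromSpec_primeIdealOf ⟨η.1, η.2.2⟩) ▸ η.2.1

end Groth.Agent.AmpleLib.FinModel

end
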